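import Cfsg.Agent.Lib.U3Two.NormSpan

/-!
An automorphism of the unipotent radical of `SU₃(2^n)` with inner square fixes the centre; the radical is a
Sylow 2-subgroup of `SU₃(2^n)`.
-/

set_option autoImplicit false
set_option linter.unusedSectionVars false

namespace Cfsg.Agent.U3Two

variable {F : Type*} [Field F] [Fintype F] {n : ℕ} (hn : 1 ≤ n) (hF : Fintype.card F = (2 ^ n) ^ 2)

/-- The first parameter of an element. -/
noncomputable def fst (g : syl hn hF) : F := ((param hn hF).symm g).1.1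

theorem fst_mul (g h : syl hn hF) : fst hn hF (g * h) = fst hn hF g + fst hn hF h := by
  obtain ⟨p, rfl⟩ := (param hn hF).surjective g
  obtain ⟨r, rfl⟩ := (param hn hF).surjective h
  simp [fst, param_prod, prod, pmul]

theorem fst_one : fst hn hF 1 = 0 := by
  have h := fst_mul hn hF 1 1
  rw [one_mul] at h
  exact left_eq_add.mp h

theorem fst_inv (g : syl hn hF) : fst hn hF g⁻¹ = fst hn hF g := by
  haveI := charTwo hn hF
  have h := fst_mul hn hF g g⁻¹
  rw [mul_inv_cancel, fst_one] at h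
  exact (CharTwo.add_eq_zero.mp h.symm).symm

theorem mem_center_iff_fst (g : syl hn hF) : g ∈ Subgroup.center (syl hn hF) ↔ fst hn hF g = 0 := by
  obtain ⟨p, rfl⟩ := (param hn hF).surjective g
  rw [mem_center_iff]
  simp [fst]

theorem sq_param (p : Par F n) :
    ((param hn hF).symm (param hn hF p * param hn hF p)).1 = (0, p.1.1 ^ (2 ^ n + 1)) := by
  haveI := charTwo hn hF
  simp [param_prod, prod, pmul, CharTwo.add_self_eq_zero, pow_succ]

theorem sq_eq_of_fst {g h : syl hn hF} (hgh : fst hn hF g = fst hn hF h) : g * g = h * h := by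
  obtain ⟨p, rfl⟩ := (param hn hF).surjective g
  obtain ⟨r, rfl⟩ := (param hn hF).surjective h
  refine (param hn hF).symm.injective (Subtype.ext ?_)
  rw [sq_param, sq_param]
  simp only [fst, Equiv.symm_apply_apply] at hgh
  rw [hgh]

theorem fst_aut (α : MulAut (syl hn hF)) {g h : syl hn hF} (hgh : fst hn hF g = fst hn hF h) :
    fst hn hF (α g) = fst hn hF (α h) := by
  haveI := charTwo hn hF
  have hc : g * h⁻¹ ∈ Subgroup.center (syl hn hF) := by
    rw [mem_center_iff_fst, fst_mul, fst_inv, hgh, CharTwo.add_self_eq_zero]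
  have hc' : α (g * h⁻¹) ∈ Subgroup.center (syl hn hF) := Subgroup.mem_center_iff.mpr fun k => by
    obtain ⟨k, rfl⟩ := α.surjective k
    rw [← map_mul, ← map_mul, Subgroup.mem_center_iff.mp hc k]
  rw [mem_center_iff_fst, map_mul, map_inv, fst_mul, fst_inv, CharTwo.add_eq_zero] at hc'
  exact hc'

/-- An automorphism with inner square fixes the centre. -/
theorem aut_fix_center (α : MulAut (syl hn hF)) (s : syl hn hF) (hα : ∀ g, α (α g) = s * g * s⁻¹)
    {z : syl hn hF} (hz : z ∈ Subgroup.center (syl hn hF)) : α z = z := by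
  classical
  haveI := charTwo hn hF
  choose b hb using exists_par hn hF
  let σ : F → syl hn hF := fun a => param hn hF ⟨(a, b a), hb a⟩
  have hσ : ∀ a, fst hn hF (σ a) = a := fun a => by simp [σ, fst]
  let A : F →+ F :=
    { toFun := fun a => fst hn hF (α (σ a))
      map_zero' := by
        rw [fst_aut hn hF α (h := 1) (by rw [hσ, fst_one]), map_one, fst_one]
      map_add' := fun a c => by
        rw [← fst_mul, ← map_mul]
        exact fst_aut hn hF α (by rw [hσ, fst_mul, hσ, hσ]) }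
  have hAA : ∀ a, A (A a) = a := by
    intro a
    show fst hn hF (α (σ (fst hn hF (α (σ a))))) = a
    rw [fst_aut hn hF α (g := σ (fst hn hF (α (σ a)))) (h := α (σ a)) (hσ _), hα, fst_mul, fst_mul, fst_inv, hσ]
    linear_combination (fst hn hF s) * (CharTwo.two_eq_zero : (2 : F) = 0)
  let T : F →+ F := AddMonoidHom.id F + A
  have hT : ∀ a, T a = a + A a := fun a => rfl
  have hrk : T.range ≤ T.ker := by
    rintro _ ⟨a, rfl⟩
    rw [AddMonoidHom.mem_ker, hT, hT, map_add, hAA, add_comm (A a) a, CharTwo.add_self_eq_zero]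
  have hW : 2 ^ n ≤ Nat.card T.ker := by
    have h := AddSubgroup.card_eq_card_quotient_mul_card_addSubgroup T.ker
    rw [Nat.card_congr (QuotientAddGroup.quotientKerEquivRange T).toEquiv, Nat.card_eq_fintype_card (α := F),
      hF] at h
    have hle : Nat.card T.range ≤ Nat.card T.ker :=
      Nat.card_le_card_of_injective _ (AddSubgroup.inclusion_injective hrk)
    nlinarith [Nat.mul_le_mul hle (le_refl (Nat.card T.ker))]
  -- the centre fixed by `α`
  let zc : (fixq hn hF) → syl hn hF := fun c => param hn hF ⟨(0, c.1), by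
    show c.1 + c.1 ^ 2 ^ n = (0 : F) ^ (2 ^ n + 1)
    rw [zero_pow (Nat.succ_ne_zero _)]
    exact (tr_eq_zero hn hF).mpr c.2⟩
  have hzc : ∀ c d, zc (c + d) = zc c * zc d := by
    intro c d
    simp only [zc, param_prod]
    refine congrArg _ (Subtype.ext ?_)
    simp [prod, pmul, zero_pow (pow_ne_zero n two_ne_zero)]
  have hzc0 : zc 0 = 1 := by
    rw [← param_zero hn hF]
    rfl
  let D : AddSubgroup F :=
    { carrier := {c | ∃ h : c ∈ fixq hn hF, α (zc ⟨c, h⟩) = zc ⟨c, h⟩}
      zero_mem' := ⟨(fixq hn hF).zero_mem, by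
        rw [show zc ⟨0, (fixq hn hF).zero_mem⟩ = 1 from hzc0, map_one]⟩
      add_mem' := by
        rintro c d ⟨hc, h1⟩ ⟨hd, h2⟩
        refine ⟨(fixq hn hF).add_mem hc hd, ?_⟩
        rw [show (⟨c + d, (fixq hn hF).add_mem hc hd⟩ : fixq hn hF) = ⟨c, hc⟩ + ⟨d, hd⟩ from rfl, hzc, map_mul,
          h1, h2]
      neg_mem' := by
        intro c hc
        rwa [CharTwo.neg_eq] }
  have hD : ∀ w ∈ T.ker, w ^ (2 ^ n + 1) ∈ D := by
    intro w hw
    rw [AddMonoidHom.mem_ker, hT, CharTwo.add_eq_zero] at hw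
    refine ⟨norm_fixed hn hF w, ?_⟩
    have hsq : σ w * σ w = zc ⟨w ^ (2 ^ n + 1), norm_fixed hn hF w⟩ := by
      refine (param hn hF).symm.injective (Subtype.ext ?_)
      simp only [σ, sq_param, zc, Equiv.symm_apply_apply]
    rw [← hsq, map_mul]
    exact sq_eq_of_fst hn hF (by rw [hσ]; exact hw.symm)
  obtain ⟨p, rfl⟩ := (param hn hF).surjective z
  rw [mem_center_iff] at hz
  have hp2 : p.1.2 ∈ fixq hn hF := by
    have h := p.2
    unfold cond at h
    rw [hz, zero_pow (Nat.succ_ne_zero _)] at h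
    exact (tr_eq_zero hn hF).mp h
  obtain ⟨h, hfix⟩ := norm_span hn hF T.ker hW D hD hp2
  have hzp : zc ⟨p.1.2, h⟩ = param hn hF p := by
    simp only [zc]
    exact congrArg (param hn hF) (Subtype.ext (Prod.ext hz.symm rfl))
  rw [hzp] at hfix
  exact hfix

include hn hF in
/-- A Sylow 2-subgroup of `SU₃(2^n)` is isomorphic to the unipotent radical. -/
theorem equiv_syl_SU (P : Sylow 2 (Cfsg.SU 3 F (2 ^ n))) :
    Nonempty (↥(P : Subgroup (Cfsg.SU 3 F (2 ^ n))) ≃* syl hn hF) := by
  classical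
  haveI : Fact (Nat.Prime 2) := ⟨Nat.prime_two⟩
  let π := QuotientGroup.mk' (Subgroup.center (Cfsg.SU 3 F (2 ^ n)))
  obtain ⟨S⟩ : Nonempty (Sylow 2 (Cfsg.PSU 3 F (2 ^ n))) := inferInstance
  obtain ⟨e⟩ := equiv_syl hn hF S
  have hZ : ¬ 2 ∣ Nat.card (Subgroup.center (Cfsg.SU 3 F (2 ^ n))) := by
    rw [Forms.card_center_SU hF (by norm_num)]
    intro h
    have := h.trans (Nat.gcd_dvd_left _ _)
    omega
  have hfac : (Nat.card (Cfsg.SU 3 F (2 ^ n))).factorization 2 =
      (Nat.card (Cfsg.PSU 3 F (2 ^ n))).factorization 2 := by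
    rw [Subgroup.card_eq_card_quotient_mul_card_subgroup (Subgroup.center (Cfsg.SU 3 F (2 ^ n))),
      Nat.factorization_mul Nat.card_pos.ne' Nat.card_pos.ne', Finsupp.add_apply,
      Nat.factorization_eq_zero_of_not_dvd hZ, add_zero]
  let P₀ : Sylow 2 (Cfsg.SU 3 F (2 ^ n)) := Sylow.ofCard (syl hn hF) (by
    rw [hfac, ← S.card_eq_multiplicity, Nat.card_congr e.toEquiv])
  exact ⟨P.equiv P₀⟩

end Cfsg.Agent.U3Two
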