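import Cfsg.Agent.Lib.U3Two.Semilinear
import Cfsg.Agent.Lib.PCore.Basic
import Cfsg.Prelude.Def_Transfer

/-!
The automorphism group of a Sylow 2-subgroup of `SU₃(2^n)`: the central automorphisms form an
elementary abelian normal subgroup of order `2^(2n²)` with quotient `ΓL₁(q²)`.
-/

set_option autoImplicit false
set_option linter.unusedSectionVars false
set_option linter.style.haveILetI false

namespace Cfsg.Agent.U3Two.AutGroup

variable {F : Type*} [Field F] [Fintype F] {n : ℕ} (hn : 1 ≤ n) (hF : Fintype.card F = (2 ^ n) ^ 2)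

/-- A lift of a first parameter. -/
noncomputable def el' (a : F) : (syl hn hF) := param hn hF ⟨(a, (exists_par hn hF a).choose), (exists_par hn hF a).choose_spec⟩

theorem fst_el (a : F) : fst hn hF (el' hn hF a) = a := by simp [el', fst]

/-- The second parameter. -/
noncomputable def snd (p : (syl hn hF)) : F := ((param hn hF).symm p).1.2

theorem ext_param {p r : (syl hn hF)} (h1 : fst hn hF p = fst hn hF r) (h2 : snd hn hF p = snd hn hF r) : p = r :=
  (param hn hF).symm.injective (Subtype.ext (Prod.ext h1 h2))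

theorem snd_mul (p r : (syl hn hF)) :
    snd hn hF (p * r) = snd hn hF p + snd hn hF r + fst hn hF p ^ 2 ^ n * fst hn hF r := by
  obtain ⟨p, rfl⟩ := (param hn hF).surjective p
  obtain ⟨r, rfl⟩ := (param hn hF).surjective r
  simp [snd, fst, param_prod, prod, pmul]

theorem snd_mul_left {p r : (syl hn hF)} (h : fst hn hF p = 0) : snd hn hF (p * r) = snd hn hF p + snd hn hF r := by
  rw [snd_mul, h, zero_pow (pow_ne_zero n two_ne_zero), zero_mul, add_zero]

theorem snd_fixed {p : (syl hn hF)} (h : fst hn hF p = 0) : snd hn hF p ^ 2 ^ n = snd hn hF p := by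
  have hc := ((param hn hF).symm p).2
  unfold cond at hc
  rw [show ((param hn hF).symm p).1.1 = 0 from h, zero_pow (Nat.succ_ne_zero _)] at hc
  exact (tr_eq_zero hn hF).mp hc

theorem snd_one : snd hn hF 1 = 0 := by
  rw [← param_zero hn hF]; simp [snd, zero']

/-- The central element of parameter `z`. -/
noncomputable def zc (z : fixq hn hF) : (syl hn hF) := param hn hF ⟨(0, z.1), by
  show z.1 + z.1 ^ 2 ^ n = (0 : F) ^ (2 ^ n + 1)
  rw [zero_pow (Nat.succ_ne_zero _)]
  exact (tr_eq_zero hn hF).mpr z.2⟩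

theorem fst_zc (z : fixq hn hF) : fst hn hF (zc hn hF z) = 0 := by simp [zc, fst]
theorem snd_zc (z : fixq hn hF) : snd hn hF (zc hn hF z) = z.1 := by simp [zc, snd]

theorem zc_central (z : fixq hn hF) (p : (syl hn hF)) : p * zc hn hF z = zc hn hF z * p :=
  Subgroup.mem_center_iff.mp ((mem_center_iff_fst hn hF _).mpr (fst_zc hn hF z)) p

theorem zc_add (z w : fixq hn hF) : zc hn hF (z + w) = zc hn hF z * zc hn hF w := by
  refine ext_param hn hF ?_ ?_
  · rw [fst_mul, fst_zc, fst_zc, fst_zc, add_zero]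
  · rw [snd_mul_left hn hF (fst_zc hn hF z), snd_zc, snd_zc, snd_zc]; rfl

theorem zc_zero : zc hn hF 0 = 1 := by
  refine ext_param hn hF ?_ ?_
  · rw [fst_zc, fst_one]
  · rw [snd_zc, snd_one]; rfl

theorem eq_zc {p : (syl hn hF)} (h : fst hn hF p = 0) : p = zc hn hF ⟨snd hn hF p, snd_fixed hn hF h⟩ :=
  ext_param hn hF (by rw [h, fst_zc]) (by rw [snd_zc])

theorem el_sq (p : (syl hn hF)) : p * p = zc hn hF ⟨fst hn hF p ^ (2 ^ n + 1), norm_fixed hn hF _⟩ := by
  haveI := charTwo hn hF
  refine ext_param hn hF ?_ ?_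
  · rw [fst_mul, CharTwo.add_self_eq_zero, fst_zc]
  · rw [snd_mul, CharTwo.add_self_eq_zero, zero_add, snd_zc]
    exact (pow_succ _ _).symm

/-- The action on the first parameter. -/
noncomputable def act (α : MulAut (syl hn hF)) (a : F) : F := fst hn hF (α (el' hn hF a))

theorem act_fst (α : MulAut (syl hn hF)) (p : (syl hn hF)) : act hn hF α (fst hn hF p) = fst hn hF (α p) :=
  fst_aut hn hF α (fst_el hn hF _)

theorem act_mul (α β : MulAut (syl hn hF)) (a : F) : act hn hF (α * β) a = act hn hF α (act hn hF β a) :=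
  (act_fst hn hF α (β (el' hn hF a))).symm

theorem act_one (a : F) : act hn hF 1 a = a := fst_el hn hF a

theorem act_add (α : MulAut (syl hn hF)) (a b : F) : act hn hF α (a + b) = act hn hF α a + act hn hF α b := by
  conv_lhs => rw [← fst_el hn hF a, ← fst_el hn hF b, ← fst_mul, act_fst, map_mul, fst_mul]
  rfl

/-- The action as a permutation. -/
noncomputable def toPerm : MulAut (syl hn hF) →* Equiv.Perm F where
  toFun α :=
    { toFun := act hn hF α
      invFun := act hn hF α⁻¹
      left_inv := fun a => by rw [← act_mul, inv_mul_cancel, act_one]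
      right_inv := fun a => by rw [← act_mul, mul_inv_cancel, act_one] }
  map_one' := Equiv.ext fun a => act_one hn hF a
  map_mul' α β := Equiv.ext fun a => act_mul hn hF α β a

theorem toPerm_apply (α : MulAut (syl hn hF)) (a : F) : toPerm hn hF α a = act hn hF α a := rfl

theorem act_semilinear (α : MulAut (syl hn hF)) :
    ∃ c : F, c ≠ 0 ∧ ∃ i < 2 * n, ∀ x, act hn hF α x = c * x ^ 2 ^ i := by
  classical
  let h : F → F := fun z => if hz : z ^ 2 ^ n = z then snd hn hF (α (zc hn hF ⟨z, hz⟩)) else 0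
  have h0 : ∀ z : fixq hn hF, fst hn hF (α (zc hn hF z)) = 0 := fun z => by
    have hz : fst hn hF (zc hn hF z) = fst hn hF (1 : (syl hn hF)) := by rw [fst_zc, fst_one]
    rw [fst_aut hn hF α hz, map_one, fst_one]
  refine semilinear hn hF (act hn hF α) (toPerm hn hF α).bijective (act_add hn hF α) h
    (fun s t hs ht => ?_) (fun x => ?_)
  · have hst : (s + t) ^ 2 ^ n = s + t := by rw [qadd hn hF, hs, ht]
    simp only [h, dif_pos hs, dif_pos ht, dif_pos hst]
    rw [← snd_mul_left hn hF (h0 ⟨s, hs⟩), ← map_mul, ← zc_add]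
    rfl
  · simp only [h, dif_pos (norm_fixed hn hF x)]
    have e := congrArg (fun p => snd hn hF (α p)) (el_sq hn hF (el' hn hF x))
    simp only [map_mul, fst_el] at e
    rw [← e, el_sq, snd_zc]
    rfl

include hn hF in
theorem semi_cond {c : F} {i : ℕ} (p : Par F n) :
    cond n (c * p.1.1 ^ 2 ^ i, c ^ (2 ^ n + 1) * p.1.2 ^ 2 ^ i) := by
  haveI := charTwo hn hF
  haveI : ExpChar F 2 := ExpChar.prime Nat.prime_two
  have hp := p.2
  unfold cond at hp ⊢
  dsimp only
  rw [mul_pow (c ^ (2 ^ n + 1)), norm_fixed hn hF, ← mul_add, ← pow_mul p.1.2, mul_comm (2 ^ i),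
    pow_mul p.1.2, ← add_pow_expChar_pow, hp, mul_pow c, ← pow_mul, ← pow_mul, mul_comm (2 ^ i)]

/-- The semilinear automorphisms. -/
theorem exists_semi (c : F) (hc : c ≠ 0) (i : ℕ) :
    ∃ α : MulAut (syl hn hF), ∀ x, act hn hF α x = c * x ^ 2 ^ i := by
  haveI := charTwo hn hF
  haveI : ExpChar F 2 := ExpChar.prime Nat.prime_two
  let m : (syl hn hF) → (syl hn hF) := fun p => param hn hF ⟨_, semi_cond hn hF (c := c) (i := i) ((param hn hF).symm p)⟩
  have hfst : ∀ p, fst hn hF (m p) = c * fst hn hF p ^ 2 ^ i := fun p => by simp [m, fst]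
  have hsnd : ∀ p, snd hn hF (m p) = c ^ (2 ^ n + 1) * snd hn hF p ^ 2 ^ i := fun p => by simp [m, snd]
  have hmul : ∀ p r, m (p * r) = m p * m r := fun p r => by
    refine ext_param hn hF ?_ ?_
    · rw [fst_mul, hfst, hfst, hfst, fst_mul, add_pow_expChar_pow, mul_add]
    · rw [snd_mul hn hF (m p), hsnd, hsnd, hsnd, hfst, hfst, snd_mul, add_pow_expChar_pow, add_pow_expChar_pow,
        mul_pow, mul_pow (c : F), ← pow_mul, ← pow_mul, mul_comm (2 ^ n) (2 ^ i), pow_succ]
      ring
  let f : (syl hn hF) →* (syl hn hF) := MonoidHom.mk' m hmul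
  have hinj : Function.Injective f := by
    refine (injective_iff_map_eq_one f).2 fun p hp => ext_param hn hF ?_ ?_
    · have h : fst hn hF (m p) = 0 := by rw [show m p = 1 from hp, fst_one]
      rw [hfst, mul_eq_zero] at h
      rw [fst_one]
      exact eq_zero_of_pow_eq_zero (h.resolve_left hc)
    · have h : snd hn hF (m p) = 0 := by rw [show m p = 1 from hp, snd_one]
      rw [hsnd, mul_eq_zero] at h
      rw [snd_one]
      exact eq_zero_of_pow_eq_zero (h.resolve_left (pow_ne_zero _ hc))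
  refine ⟨MulEquiv.ofBijective f (Finite.injective_iff_bijective.1 hinj), fun x => ?_⟩
  show fst hn hF (m (el' hn hF x)) = _
  rw [hfst, fst_el]

include hn hF in
theorem frob_inj {c d : F} (hc : c ≠ 0) {i j : ℕ} (hi : i < 2 * n) (hj : j < 2 * n)
    (h : ∀ x : F, c * x ^ 2 ^ i = d * x ^ 2 ^ j) : c = d ∧ i = j := by
  classical
  haveI := charTwo hn hF
  haveI : ExpChar F 2 := ExpChar.prime Nat.prime_two
  have hcd : c = d := by simpa using h 1
  subst hcd
  refine ⟨rfl, ?_⟩
  have key : ∀ i j : ℕ, i ≤ j → j < 2 * n → (∀ x : F, x ^ 2 ^ i = x ^ 2 ^ j) → i = j := by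
    intro i j hij hj hx
    obtain ⟨u, hu⟩ := IsCyclic.exists_generator (α := Fˣ)
    have hord : orderOf u = 2 ^ (2 * n) - 1 := by
      rw [orderOf_eq_card_of_forall_mem_zpowers hu, Nat.card_units, Nat.card_eq_fintype_card, hF, ← pow_mul,
        mul_comm n 2]
    have e : (u : F) ^ 2 ^ (j - i) = u := by
      refine iterateFrobenius_inj F 2 i ?_
      rw [iterateFrobenius_def, iterateFrobenius_def, ← pow_mul, ← pow_add, Nat.sub_add_cancel hij, hx]
    have hd : orderOf u ∣ 2 ^ (j - i) - 1 := by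
      refine orderOf_dvd_of_pow_eq_one (mul_right_cancel (b := u) ?_)
      rw [← pow_succ, Nat.sub_add_cancel (Nat.one_le_two_pow), one_mul]
      exact Units.ext (by simpa using e)
    rw [hord] at hd
    by_contra hne
    have hpos : 2 ^ 1 ≤ 2 ^ (j - i) := Nat.pow_le_pow_right (by norm_num) (by omega)
    have hlt : 2 ^ (j - i) < 2 ^ (2 * n) := Nat.pow_lt_pow_right (by norm_num) (by omega)
    have := Nat.le_of_dvd (by omega) hd
    omega
  rcases le_total i j with hij | hij
  · exact key i j hij hj fun x => mul_left_cancel₀ hc (h x)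
  · exact (key j i hij hi fun x => mul_left_cancel₀ hc (h x).symm).symm

theorem card_range : Nat.card (toPerm hn hF).range = 2 * n * ((2 ^ n) ^ 2 - 1) := by
  classical
  let Ψ : Fˣ × Fin (2 * n) → (toPerm hn hF).range := fun p =>
    ⟨toPerm hn hF (exists_semi hn hF p.1.1 p.1.ne_zero p.2).choose, ⟨_, rfl⟩⟩
  have hΨ : ∀ p x, (Ψ p).1 x = (p.1 : F) * x ^ 2 ^ (p.2 : ℕ) := fun p =>
    (exists_semi hn hF p.1.1 p.1.ne_zero p.2).choose_spec
  have hb : Function.Bijective Ψ := by
    refine ⟨fun p r e => ?_, fun ⟨σ, α, hα⟩ => ?_⟩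
    · obtain ⟨h1, h2⟩ := frob_inj hn hF p.1.ne_zero p.2.2 r.2.2 fun x => by rw [← hΨ, ← hΨ, e]
      exact Prod.ext (Units.ext h1) (Fin.ext h2)
    · obtain ⟨c, hc, i, hi, hx⟩ := act_semilinear hn hF α
      refine ⟨(Units.mk0 c hc, ⟨i, hi⟩), Subtype.ext (Equiv.ext fun x => ?_)⟩
      rw [hΨ]
      show _ = σ x
      rw [← hα]
      exact (hx x).symm
  rw [← Nat.card_congr (Equiv.ofBijective Ψ hb), Nat.card_prod, Nat.card_units, Nat.card_fin,
    Nat.card_eq_fintype_card, hF, mul_comm]

/-- The central automorphism of a homomorphism to the centre. -/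
noncomputable def centralAut : Multiplicative (F →+ fixq hn hF) →* MulAut (syl hn hF) where
  toFun φ :=
    { toFun := fun p => p * zc hn hF (φ.toAdd (fst hn hF p))
      invFun := fun p => p * zc hn hF (φ.toAdd (fst hn hF p))
      left_inv := fun p => by
        haveI := charTwo hn hF
        beta_reduce
        rw [fst_mul, fst_zc, add_zero, mul_assoc, ← zc_add]
        have h : φ.toAdd (fst hn hF p) + φ.toAdd (fst hn hF p) = 0 := Subtype.ext (CharTwo.add_self_eq_zero _)
        rw [h, zc_zero, mul_one]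
      right_inv := fun p => by
        haveI := charTwo hn hF
        beta_reduce
        rw [fst_mul, fst_zc, add_zero, mul_assoc, ← zc_add]
        have h : φ.toAdd (fst hn hF p) + φ.toAdd (fst hn hF p) = 0 := Subtype.ext (CharTwo.add_self_eq_zero _)
        rw [h, zc_zero, mul_one]
      map_mul' := fun p r => by
        rw [fst_mul, map_add, zc_add, mul_assoc, mul_assoc, ← mul_assoc r, zc_central hn hF _ r, mul_assoc] }
  map_one' := MulEquiv.ext fun p => by
    show p * zc hn hF 0 = p
    rw [zc_zero, mul_one]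
  map_mul' φ ψ := MulEquiv.ext fun p => by
    show p * zc hn hF (φ.toAdd (fst hn hF p) + ψ.toAdd (fst hn hF p)) =
      p * zc hn hF (ψ.toAdd (fst hn hF p)) * zc hn hF (φ.toAdd (fst hn hF (p * zc hn hF (ψ.toAdd (fst hn hF p)))))
    rw [fst_mul, fst_zc, add_zero, mul_assoc, ← zc_add, add_comm]

theorem centralAut_injective : Function.Injective (centralAut hn hF) := by
  intro φ ψ h
  refine Multiplicative.toAdd.injective (AddMonoidHom.ext fun a => Subtype.ext ?_)
  have e : el' hn hF a * zc hn hF (φ.toAdd (fst hn hF (el' hn hF a))) =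
      el' hn hF a * zc hn hF (ψ.toAdd (fst hn hF (el' hn hF a))) := MulEquiv.congr_fun h (el' hn hF a)
  rw [fst_el] at e
  have := congrArg (snd hn hF) (mul_left_cancel e)
  rwa [snd_zc, snd_zc] at this

theorem centralAut_range : (centralAut hn hF).range = (toPerm hn hF).ker := by
  haveI := charTwo hn hF
  refine le_antisymm ?_ fun α hα => ?_
  · rintro _ ⟨φ, rfl⟩
    refine Equiv.ext fun a => ?_
    show fst hn hF (el' hn hF a * zc hn hF _) = a
    rw [fst_mul, fst_zc, add_zero, fst_el]
  have hfst : ∀ p, fst hn hF (α p) = fst hn hF p := fun p => by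
    rw [← act_fst]
    exact Equiv.congr_fun hα _
  have hzc : ∀ z, α (zc hn hF z) = zc hn hF z := fun z => by
    obtain ⟨a, ha⟩ := norm_surj hn hF z.2
    have e : el' hn hF a * el' hn hF a = zc hn hF z := by
      rw [el_sq]
      exact congrArg _ (Subtype.ext (by rw [fst_el]; exact ha))
    rw [← e, map_mul]
    exact sq_eq_of_fst hn hF (hfst _)
  have h0 : ∀ p, fst hn hF (p⁻¹ * α p) = 0 := fun p => by
    rw [fst_mul, fst_inv, hfst, CharTwo.add_self_eq_zero]
  have hdep : ∀ p r, fst hn hF p = fst hn hF r → p⁻¹ * α p = r⁻¹ * α r := fun p r e => by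
    have h : fst hn hF (r⁻¹ * p) = 0 := by rw [fst_mul, fst_inv, e, CharTwo.add_self_eq_zero]
    have hp : p = r * (r⁻¹ * p) := (mul_inv_cancel_left r p).symm
    rw [eq_zc hn hF h] at hp
    set z := (⟨snd hn hF (r⁻¹ * p), snd_fixed hn hF h⟩ : fixq hn hF)
    rw [hp, map_mul, hzc, mul_inv_rev, mul_assoc, zc_central hn hF _ (α r), ← mul_assoc r⁻¹,
      zc_central hn hF _ r⁻¹, mul_assoc, inv_mul_cancel_left]
  let φ : F →+ fixq hn hF :=
    AddMonoidHom.mk' (fun a => ⟨snd hn hF ((el' hn hF a)⁻¹ * α (el' hn hF a)), snd_fixed hn hF (h0 _)⟩)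
      fun a b => Subtype.ext (by
        show snd hn hF ((el' hn hF (a + b))⁻¹ * α (el' hn hF (a + b))) = _ + _
        rw [hdep (el' hn hF (a + b)) (el' hn hF a * el' hn hF b) (by rw [fst_mul, fst_el, fst_el, fst_el]),
          ← snd_mul_left hn hF (h0 _)]
        congr 1
        have hc := Subgroup.mem_center_iff.mp ((mem_center_iff_fst hn hF _).mpr (h0 (el' hn hF a)))
          (el' hn hF b)⁻¹
        calc (el' hn hF a * el' hn hF b)⁻¹ * α (el' hn hF a * el' hn hF b)
            = (el' hn hF b)⁻¹ * ((el' hn hF a)⁻¹ * α (el' hn hF a)) * α (el' hn hF b) := by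
              rw [map_mul]; group
          _ = (el' hn hF a)⁻¹ * α (el' hn hF a) * ((el' hn hF b)⁻¹ * α (el' hn hF b)) := by rw [hc]; group)
  refine ⟨Multiplicative.ofAdd φ, MulEquiv.ext fun p => ?_⟩
  show p * zc hn hF (φ (fst hn hF p)) = α p
  rw [← eq_inv_mul_iff_mul_eq]
  refine (ext_param hn hF ?_ ?_)
  · rw [fst_zc, h0]
  · rw [snd_zc]
    exact congrArg (snd hn hF) (hdep _ _ (fst_el hn hF _))

theorem card_hom : Nat.card (F →+ fixq hn hF) = 2 ^ (2 * n ^ 2) := by
  haveI : Fact (Nat.Prime 2) := ⟨Nat.prime_two⟩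
  haveI := charTwo hn hF
  letI : Module (ZMod 2) F := AddCommGroup.zmodModule fun x => by rw [two_smul, CharTwo.add_self_eq_zero]
  letI : Module (ZMod 2) (fixq hn hF) := AddCommGroup.zmodModule fun x => Subtype.ext (by
    rw [two_smul]; exact CharTwo.add_self_eq_zero _)
  haveI : Module.Finite (ZMod 2) F := Module.Finite.of_finite
  haveI : Module.Finite (ZMod 2) (fixq hn hF) := Module.Finite.of_finite
  have h1 : Module.finrank (ZMod 2) F = 2 * n := by
    have h := Module.natCard_eq_pow_finrank (K := ZMod 2) (V := F)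
    rw [Nat.card_zmod, Nat.card_eq_fintype_card, hF, ← pow_mul, mul_comm] at h
    exact (Nat.pow_right_injective le_rfl h).symm
  have h2 : Module.finrank (ZMod 2) (fixq hn hF) = n := by
    have h := Module.natCard_eq_pow_finrank (K := ZMod 2) (V := fixq hn hF)
    rw [Nat.card_zmod, show Nat.card (fixq hn hF) = 2 ^ n from card_fix hn hF] at h
    exact (Nat.pow_right_injective le_rfl h).symm
  let e : (F →+ fixq hn hF) ≃ (F →ₗ[ZMod 2] fixq hn hF) :=
    { toFun := fun f => f.toZModLinearMap 2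
      invFun := fun f => f.toAddMonoidHom
      left_inv := fun f => by ext; rfl
      right_inv := fun f => by ext; rfl }
  rw [Nat.card_congr e, Module.natCard_eq_pow_finrank (K := ZMod 2), Nat.card_zmod, Module.finrank_linearMap, h1, h2]
  ring

/-- The main statement for the unipotent radical. -/
theorem main :
    Cfsg.IsElementaryAbelian 2 (Cfsg.pCore 2 (MulAut (syl hn hF))) ∧
      Nat.card ↥(Cfsg.pCore 2 (MulAut (syl hn hF))) = 2 ^ (2 * n ^ 2) ∧
      Nat.card (MulAut (syl hn hF)) = 2 ^ (2 * n ^ 2) * (2 * n * ((2 ^ n) ^ 2 - 1)) := by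
  haveI : Fact (Nat.Prime 2) := ⟨Nat.prime_two⟩
  haveI := charTwo hn hF
  haveI : ExpChar F 2 := ExpChar.prime Nat.prime_two
  set K := (toPerm hn hF).ker with hK
  have hKc : Nat.card K = 2 ^ (2 * n ^ 2) := by
    rw [hK, ← centralAut_range, ← card_hom hn hF]
    exact ((Nat.card_congr (MonoidHom.ofInjective (centralAut_injective hn hF)).toEquiv).symm.trans
      (Nat.card_congr Multiplicative.toAdd))
  have hpc : Cfsg.pCore 2 (MulAut (syl hn hF)) = K := by
    refine le_antisymm (fun β hβ => ?_) (PCore.le_pCore (IsPGroup.of_card hKc))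
    obtain ⟨c, hc, i, hi, hx⟩ := act_semilinear hn hF β
    have hR : IsPGroup 2 ((Cfsg.pCore 2 (MulAut (syl hn hF))).map (toPerm hn hF)) :=
      PCore.isPGroup_pCore.map _
    have hscal : ∀ e : F, (∃ γ ∈ Cfsg.pCore 2 (MulAut (syl hn hF)), ∀ x, act hn hF γ x = e * x) → e = 1 := by
      rintro e ⟨γ, hγ, hγx⟩
      obtain ⟨k, hk⟩ := hR ⟨_, Subgroup.mem_map_of_mem _ hγ⟩
      have hit : ∀ m : ℕ, ∀ x, (toPerm hn hF γ ^ m) x = e ^ m * x := by
        intro m
        induction m with
        | zero => intro x; simp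
        | succ m ih =>
          intro x
          rw [pow_succ', Equiv.Perm.mul_apply, ih, toPerm_apply, hγx, pow_succ']
          ring
      have h1 := hit (2 ^ k) 1
      rw [show toPerm hn hF γ ^ 2 ^ k = 1 from congrArg Subtype.val hk, Equiv.Perm.one_apply, mul_one] at h1
      refine iterateFrobenius_inj F 2 k ?_
      rw [iterateFrobenius_def, map_one]
      exact h1.symm
    have hi0 : i = 0 := by
      refine (frob_inj hn hF (d := 1) one_ne_zero hi (show 0 < 2 * n by omega) fun d => ?_).2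
      by_cases hd : d = 0
      · simp [hd, zero_pow (pow_ne_zero i two_ne_zero)]
      obtain ⟨δ, hδ⟩ := exists_semi hn hF d hd 0
      have hmem : δ * β * δ⁻¹ * β⁻¹ ∈ Cfsg.pCore 2 (MulAut (syl hn hF)) :=
        mul_mem ((inferInstance : (Cfsg.pCore 2 (MulAut (syl hn hF))).Normal).conj_mem β hβ δ) (inv_mem hβ)
      have he := hscal (d / d ^ 2 ^ i) ⟨_, hmem, fun x => ?_⟩
      · rw [one_mul, pow_zero, pow_one, one_mul]
        exact ((div_eq_one_iff_eq (pow_ne_zero _ hd)).1 he).symm
      · -- evaluate the commutator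
        have hβi : ∀ y, c * act hn hF β⁻¹ y ^ 2 ^ i = y := fun y => by
          rw [← hx, ← act_mul, mul_inv_cancel, act_one]
        have hδi : ∀ y, act hn hF δ⁻¹ y = y / d := fun y => by
          rw [eq_div_iff hd, mul_comm]
          have h := hδ (act hn hF δ⁻¹ y)
          rw [pow_zero, pow_one, ← act_mul, mul_inv_cancel, act_one] at h
          exact h.symm
        rw [act_mul, act_mul, act_mul, hδ, hx, hδi, pow_zero, pow_one, div_pow]
        have := hβi x
        field_simp
        linear_combination this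
    subst hi0
    have hc1 : c = 1 := hscal c ⟨β, hβ, fun x => by rw [hx, pow_zero, pow_one]⟩
    refine Equiv.ext fun a => ?_
    rw [toPerm_apply, hx, hc1, pow_zero, pow_one, one_mul]
    rfl
  refine ⟨⟨⟨⟨fun a b => Subtype.ext ?_⟩⟩, fun a ha => ?_⟩, hpc ▸ hKc, ?_⟩
  · obtain ⟨φ, hφ⟩ : a.1 ∈ (centralAut hn hF).range := (centralAut_range hn hF).ge (hpc.le a.2)
    obtain ⟨ψ, hψ⟩ : b.1 ∈ (centralAut hn hF).range := (centralAut_range hn hF).ge (hpc.le b.2)
    rw [Subgroup.coe_mul, Subgroup.coe_mul, ← hφ, ← hψ, ← map_mul, ← map_mul, mul_comm]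
  · obtain ⟨φ, rfl⟩ : a ∈ (centralAut hn hF).range := (centralAut_range hn hF).ge (hpc.le ha)
    rw [← map_pow, show φ ^ 2 = 1 from Multiplicative.toAdd.injective (AddMonoidHom.ext fun x => Subtype.ext (by
      simp only [pow_two, toAdd_mul, toAdd_one, AddMonoidHom.add_apply, AddMonoidHom.zero_apply]
      exact CharTwo.add_self_eq_zero _)), map_one]
  · rw [← K.card_mul_index, hKc, hK, Subgroup.index_ker, card_range]

end Cfsg.Agent.U3Two.AutGroup
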