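import Mathlib
import Cfsg.Prelude.Def_Classical
import Cfsg.Agent.Lib.Forms.HermCenter
import Cfsg.Agent.Lib.Fusion.UniTri

/-!
The unipotent radical of `SU₃(2^n)` for the standard form `Σ uᵢ vᵢ^q`, in the parameters
`b + b^q = a^(q+1)`, and its identification with a Sylow 2-subgroup of `PSU₃(2^n)`.
-/

set_option autoImplicit false
set_option linter.unusedSectionVars false

namespace Cfsg.Agent.U3Two

open Matrix

variable {F : Type*} [Field F] [Fintype F] {n : ℕ} (hn : 1 ≤ n) (hF : Fintype.card F = (2 ^ n) ^ 2)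

include hn hF in
theorem charTwo : CharP F 2 := by
  obtain ⟨p, hp⟩ := CharP.exists F
  haveI := hp
  obtain ⟨k, hpp, hk⟩ := FiniteField.card F p
  have h2 : p ∣ (2 ^ n) ^ 2 := hF ▸ hk ▸ dvd_pow_self p k.pos.ne'
  rw [← (Nat.prime_dvd_prime_iff_eq hpp Nat.prime_two).mp (hpp.dvd_of_dvd_pow (hpp.dvd_of_dvd_pow h2))]
  exact hp

include hn hF in
theorem two_zero : (2 : F) = 0 := by
  haveI := charTwo hn hF
  exact CharTwo.two_eq_zero

include hn hF in
theorem qadd (x y : F) : (x + y) ^ 2 ^ n = x ^ 2 ^ n + y ^ 2 ^ n := by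
  haveI := charTwo hn hF
  haveI : ExpChar F 2 := ExpChar.prime Nat.prime_two
  exact add_pow_expChar_pow x y 2 n

/-- The condition on the parameters. -/
def cond (n : ℕ) (p : F × F) : Prop := p.2 + p.2 ^ 2 ^ n = p.1 ^ (2 ^ n + 1)

/-- The parameters. -/
abbrev Par (F : Type*) [Field F] [Fintype F] (n : ℕ) := {p : F × F // cond n p}

/-- The product of parameters. -/
def pmul (n : ℕ) (p r : F × F) : F × F := (p.1 + r.1, p.2 + r.2 + p.1 ^ 2 ^ n * r.1)

include hn hF in
theorem cond_pmul {p r : F × F} (hp : cond n p) (hr : cond n r) : cond n (pmul n p r) := by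
  unfold cond at *
  simp only [pmul, qadd hn hF, mul_pow, pow_succ] at hp hr ⊢
  rw [Forms.pow_q_q hF]
  linear_combination hp + hr

/-- The change of coordinates to an antidiagonal form. -/
def pP : Matrix (Fin 3) (Fin 3) F := !![1, 1, 0; 1, 1, 1; 0, 1, 1]
/-- Its inverse. -/
def pQ : Matrix (Fin 3) (Fin 3) F := !![0, 1, 1; 1, 1, 1; 1, 1, 0]

/-- The unitriangular matrix of a parameter. -/
def up (n : ℕ) (p : F × F) : Matrix (Fin 3) (Fin 3) F := !![1, p.1 ^ 2 ^ n, p.2; 0, 1, p.1; 0, 0, 1]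

/-- The matrix of a parameter. -/
def mat (n : ℕ) (p : F × F) : Matrix (Fin 3) (Fin 3) F := pP * up n p * pQ

include hn hF in
theorem pQ_pP : (pQ : Matrix (Fin 3) (Fin 3) F) * pP = 1 := by
  have h2 := two_zero hn hF
  ext i j
  fin_cases i <;> fin_cases j <;> simp [pP, pQ, Matrix.mul_apply, Fin.sum_univ_three] <;>
    first | linear_combination h2 | linear_combination (1 : F) * h2

include hn hF in
theorem pP_pQ : (pP : Matrix (Fin 3) (Fin 3) F) * pQ = 1 := mul_eq_one_comm.mp (pQ_pP hn hF)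

include hn hF in
theorem mat_mul (p r : F × F) : mat n p * mat n r = mat n (pmul n p r) := by
  have hu : up n p * up n r = up n (pmul n p r) := by
    ext i j
    fin_cases i <;> fin_cases j <;>
      simp [up, pmul, Matrix.mul_apply, Fin.sum_univ_three, qadd hn hF, add_comm, add_assoc]
  unfold mat
  rw [← hu]
  calc pP * up n p * pQ * (pP * up n r * pQ) = pP * up n p * (pQ * pP) * (up n r * pQ) := by
        simp only [Matrix.mul_assoc]
    _ = pP * (up n p * up n r) * pQ := by rw [pQ_pP hn hF, Matrix.mul_one]; simp only [Matrix.mul_assoc]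

include hn hF in
theorem mat_injective : Function.Injective (mat n : F × F → Matrix (Fin 3) (Fin 3) F) := by
  intro p r h
  have e : ∀ s : F × F, pQ * mat n s * pP = up n s := fun s => by
    calc pQ * (pP * up n s * pQ) * pP = (pQ * pP) * up n s * (pQ * pP) := by simp only [Matrix.mul_assoc]
      _ = up n s := by rw [pQ_pP hn hF, Matrix.one_mul, Matrix.mul_one]
  have h' : up n p = up n r := by rw [← e, h, e]
  exact Prod.ext (by simpa [up] using congrFun (congrFun h' 1) 2) (by simpa [up] using congrFun (congrFun h' 0) 2)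

include hn hF in
theorem mat_zero : mat n ((0, 0) : F × F) = 1 := by
  have hu : up n ((0, 0) : F × F) = 1 := by
    ext i j
    fin_cases i <;> fin_cases j <;> simp [up]
  rw [mat, hu, Matrix.mul_one, pP_pQ hn hF]

include hn hF in
theorem mat_det (p : F × F) : (mat n p).det = 1 := by
  have hu : (up n p).det = 1 := by rw [det_fin_three]; simp [up]
  rw [mat, det_mul, det_mul, hu, mul_one, ← det_mul, pP_pQ hn hF, det_one]

/-- The antidiagonal Hermitian form. -/
def anti (n : ℕ) (u v : Fin 3 → F) : F := u 0 * v 2 ^ 2 ^ n + u 1 * v 1 ^ 2 ^ n + u 2 * v 0 ^ 2 ^ n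

include hn hF in
theorem herm_pP (u v : Fin 3 → F) :
    Cfsg.hermForm 3 F (2 ^ n) (pP *ᵥ u) (pP *ᵥ v) = anti n u v := by
  have h2 := two_zero hn hF
  simp [Cfsg.hermForm, anti, pP, Fin.sum_univ_three, mulVec, dotProduct, qadd hn hF]
  linear_combination (u 0 * v 0 ^ 2 ^ n + u 0 * v 1 ^ 2 ^ n + u 1 * v 0 ^ 2 ^ n + u 1 * v 1 ^ 2 ^ n
    + u 1 * v 2 ^ 2 ^ n + u 2 * v 1 ^ 2 ^ n + u 2 * v 2 ^ 2 ^ n) * h2

include hn hF in
theorem anti_up {p : F × F} (hp : cond n p) (u v : Fin 3 → F) :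
    anti n (up n p *ᵥ u) (up n p *ᵥ v) = anti n u v := by
  have h2 := two_zero hn hF
  simp only [cond, pow_succ] at hp
  simp [anti, up, Fin.sum_univ_three, mulVec, dotProduct, qadd hn hF, mul_pow, Forms.pow_q_q hF]
  linear_combination (u 2 * v 2 ^ 2 ^ n) * hp + (u 1 * v 2 ^ 2 ^ n * p.1 ^ 2 ^ n + u 2 * v 1 ^ 2 ^ n * p.1
    + p.1 ^ 2 ^ n * p.1 * (u 2 * v 2 ^ 2 ^ n)) * h2

include hn hF in
theorem herm_mat {p : F × F} (hp : cond n p) (u v : Fin 3 → F) :
    Cfsg.hermForm 3 F (2 ^ n) (mat n p *ᵥ u) (mat n p *ᵥ v) = Cfsg.hermForm 3 F (2 ^ n) u v := by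
  simp only [mat, ← mulVec_mulVec]
  rw [herm_pP hn hF, anti_up hn hF hp, ← herm_pP hn hF, mulVec_mulVec, mulVec_mulVec, pP_pQ hn hF,
    one_mulVec, one_mulVec]

include hn hF in
theorem cond_zero : cond n ((0, 0) : F × F) := by
  simp [cond, zero_pow (pow_ne_zero n two_ne_zero)]

/-- A parameter as an element of `SU₃`. -/
def el (p : Par F n) : Cfsg.SU 3 F (2 ^ n) :=
  ⟨⟨mat n p.1, mat_det hn hF _⟩, fun u v => herm_mat hn hF p.2 u v⟩

theorem el_injective : Function.Injective (el hn hF) := fun p r h =>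
  Subtype.ext (mat_injective hn hF (congrArg
    (fun g : Cfsg.SU 3 F (2 ^ n) => ((g : SpecialLinearGroup (Fin 3) F) : Matrix (Fin 3) (Fin 3) F)) h))

/-- The product. -/
def prod (p r : Par F n) : Par F n := ⟨pmul n p.1 r.1, cond_pmul hn hF p.2 r.2⟩

theorem el_prod (p r : Par F n) : el hn hF p * el hn hF r = el hn hF (prod hn hF p r) :=
  Subtype.ext (Subtype.ext (mat_mul hn hF p.1 r.1))

/-- The neutral parameter. -/
def zero' : Par F n := ⟨(0, 0), cond_zero hn hF⟩

theorem el_zero : el hn hF (zero' hn hF) = 1 := Subtype.ext (Subtype.ext (mat_zero hn hF))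

/-- The submonoid of the parameters. -/
def sylMonoid : Submonoid (Cfsg.SU 3 F (2 ^ n)) where
  carrier := Set.range (el hn hF)
  one_mem' := ⟨zero' hn hF, el_zero hn hF⟩
  mul_mem' := by rintro _ _ ⟨p, rfl⟩ ⟨r, rfl⟩; exact ⟨prod hn hF p r, (el_prod hn hF p r).symm⟩

/-- The Sylow subgroup. -/
def syl : Subgroup (Cfsg.SU 3 F (2 ^ n)) where
  toSubmonoid := sylMonoid hn hF
  inv_mem' := fun {x} hx => by
    haveI : Finite (Cfsg.SU 3 F (2 ^ n)) := inferInstance
    exact Fusion.UniTri.inv_mem_of_finite (sylMonoid hn hF) hx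

/-- The parametrisation. -/
noncomputable def param : Par F n ≃ syl hn hF :=
  Equiv.ofBijective (fun p => ⟨el hn hF p, ⟨p, rfl⟩⟩)
    ⟨fun _ _ h => el_injective hn hF (congrArg Subtype.val h), fun ⟨_, p, e⟩ => ⟨p, Subtype.ext e⟩⟩

theorem param_prod (p r : Par F n) : param hn hF p * param hn hF r = param hn hF (prod hn hF p r) :=
  Subtype.ext (el_prod hn hF p r)

theorem param_zero : param hn hF (zero' hn hF) = 1 := Subtype.ext (el_zero hn hF)

/-- `t ↦ t + t^q`. -/
def tr : F →+ F where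
  toFun t := t + t ^ 2 ^ n
  map_zero' := by simp [zero_pow (pow_ne_zero n two_ne_zero)]
  map_add' x y := by
    simp only [qadd hn hF]
    ring

include hn hF in
theorem tr_eq_zero {b : F} : b + b ^ 2 ^ n = 0 ↔ b ^ 2 ^ n = b := by
  haveI := charTwo hn hF
  rw [CharTwo.add_eq_zero, eq_comm]

include hn hF in
theorem card_fix : Nat.card {b : F // b ^ 2 ^ n = b} = 2 ^ n := by
  classical
  have hq : 2 ≤ 2 ^ n := Nat.le_self_pow (by omega) 2
  have hd : 2 ^ n - 1 ∣ (2 ^ n + 1) * (2 ^ n - 1) := Dvd.intro_left _ rfl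
  have hK := Forms.card_units_pow_eq_one hF hd
  have e : {b : F // b ^ 2 ^ n = b} ≃ Option (powMonoidHom (α := Fˣ) (2 ^ n - 1)).ker :=
    { toFun := fun b => if h : (b : F) = 0 then none else some ⟨Units.mk0 b h, Units.ext (by
        rw [powMonoidHom_apply, Units.val_pow_eq_pow_val, Units.val_mk0]
        refine mul_right_cancel₀ h ?_
        rw [← pow_succ, Nat.sub_add_cancel (by omega), b.2, Units.val_one, one_mul])⟩
      invFun := fun o => o.elim ⟨0, zero_pow (by omega)⟩ fun u => ⟨(u.1 : F), by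
        have h : (u.1 : F) ^ (2 ^ n - 1) = 1 := by simpa using congrArg Units.val u.2
        calc (u.1 : F) ^ 2 ^ n = (u.1 : F) ^ (2 ^ n - 1 + 1) := by rw [Nat.sub_add_cancel (by omega)]
          _ = _ := by rw [pow_succ, h, one_mul]⟩
      left_inv := fun b => by
        by_cases h : (b : F) = 0
        · simp [h]; exact Subtype.ext h.symm
        · simp [h]
      right_inv := fun o => by
        cases o with
        | none => simp
        | some u => simp }
  rw [Nat.card_congr e, Finite.card_option, hK]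
  omega

include hn hF in
theorem card_tr_fibre {c : F} (hc : c ^ 2 ^ n = c) :
    Nat.card {b : F // b + b ^ 2 ^ n = c} = 2 ^ n := by
  classical
  have hker : Nat.card (tr hn hF).ker = 2 ^ n := by
    rw [← card_fix hn hF]
    exact Nat.card_congr (Equiv.subtypeEquivRight fun b => tr_eq_zero hn hF)
  have hrange : Nat.card (tr hn hF).range = 2 ^ n := by
    have h := AddSubgroup.card_eq_card_quotient_mul_card_addSubgroup (tr hn hF).ker
    rw [Nat.card_congr (QuotientAddGroup.quotientKerEquivRange (tr hn hF)).toEquiv, hker,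
      Nat.card_eq_fintype_card (α := F), hF, sq] at h
    exact (Nat.eq_of_mul_eq_mul_right (by positivity) h).symm
  let Fix : AddSubgroup F :=
    { carrier := {b | b ^ 2 ^ n = b}
      add_mem' := fun {x y} hx hy => by
        show (x + y) ^ 2 ^ n = x + y
        rw [qadd hn hF, hx, hy]
      zero_mem' := zero_pow (pow_ne_zero n two_ne_zero)
      neg_mem' := fun {x} hx => by
        haveI := charTwo hn hF
        show (-x) ^ 2 ^ n = -x
        rw [CharTwo.neg_eq]; exact hx }
  have hle : (tr hn hF).range ≤ Fix := by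
    rintro _ ⟨t, rfl⟩
    show (t + t ^ 2 ^ n) ^ 2 ^ n = t + t ^ 2 ^ n
    rw [qadd hn hF, Forms.pow_q_q hF, add_comm]
  have heq : (tr hn hF).range = Fix :=
    AddSubgroup.eq_of_le_of_card_ge hle (by rw [hrange]; exact (card_fix hn hF).le)
  obtain ⟨b₀, hb₀⟩ : c ∈ (tr hn hF).range := heq ▸ hc
  have hb₀' : b₀ + b₀ ^ 2 ^ n = c := hb₀
  refine (Nat.card_congr (β := (tr hn hF).ker)
    { toFun := fun b => ⟨b.1 - b₀, by
        rw [AddMonoidHom.mem_ker, map_sub, sub_eq_zero]
        exact b.2.trans hb₀.symm⟩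
      invFun := fun k => ⟨b₀ + k.1, by
        show tr hn hF (b₀ + k.1) = c
        rw [map_add, AddMonoidHom.mem_ker.mp k.2, add_zero]
        exact hb₀⟩
      left_inv := fun b => Subtype.ext (add_sub_cancel _ _)
      right_inv := fun k => Subtype.ext (add_sub_cancel_left _ _) }).trans hker

include hn hF in
theorem norm_fixed (a : F) : (a ^ (2 ^ n + 1)) ^ 2 ^ n = a ^ (2 ^ n + 1) := by
  rw [pow_succ, mul_pow, Forms.pow_q_q hF, mul_comm]

include hn hF in
theorem exists_par (a : F) : ∃ b, cond n (a, b) := by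
  have h := card_tr_fibre hn hF (norm_fixed hn hF a)
  obtain ⟨⟨b, hb⟩⟩ := (Nat.card_ne_zero.mp (h.trans_ne (pow_ne_zero n two_ne_zero))).1
  exact ⟨b, hb⟩

theorem card_syl : Nat.card (syl hn hF) = (2 ^ n) ^ 3 := by
  classical
  rw [← Nat.card_congr (param hn hF)]
  let e : Par F n ≃ Σ a : F, {b : F // b + b ^ 2 ^ n = a ^ (2 ^ n + 1)} :=
    { toFun := fun p => ⟨p.1.1, p.1.2, p.2⟩
      invFun := fun s => ⟨(s.1, s.2.1), s.2.2⟩
      left_inv := fun p => rfl
      right_inv := fun s => rfl }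
  rw [Nat.card_congr e, Nat.card_sigma, Finset.sum_congr rfl fun a _ => card_tr_fibre hn hF (norm_fixed hn hF a),
    Finset.sum_const, Finset.card_univ, smul_eq_mul, hF]
  ring

theorem mem_center_iff (p : Par F n) : param hn hF p ∈ Subgroup.center (syl hn hF) ↔ p.1.1 = 0 := by
  haveI := charTwo hn hF
  constructor
  · intro h
    by_contra ha
    obtain ⟨t, ht⟩ : ∃ t : F, t ^ 2 ^ n ≠ t := by
      by_contra hall
      push Not at hall
      have h1 := card_fix hn hF
      rw [Nat.card_congr (Equiv.subtypeUnivEquiv hall), Nat.card_eq_fintype_card, hF] at h1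
      have : 2 ≤ 2 ^ n := Nat.le_self_pow (by omega) 2
      nlinarith
    obtain ⟨b', hb'⟩ := exists_par hn hF (p.1.1 * t)
    have hc := Subgroup.mem_center_iff.mp h (param hn hF ⟨(p.1.1 * t, b'), hb'⟩)
    rw [param_prod, param_prod, (param hn hF).injective.eq_iff, Subtype.ext_iff] at hc
    have h2 : b' + p.1.2 + (p.1.1 * t) ^ 2 ^ n * p.1.1 = p.1.2 + b' + p.1.1 ^ 2 ^ n * (p.1.1 * t) :=
      congrArg Prod.snd hc
    rw [mul_pow] at h2
    have h3 : p.1.1 ^ 2 ^ n * p.1.1 * t ^ 2 ^ n = p.1.1 ^ 2 ^ n * p.1.1 * t := by linear_combination h2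
    exact ht (mul_left_cancel₀ (mul_ne_zero (pow_ne_zero _ ha) ha) h3)
  · intro ha
    refine Subgroup.mem_center_iff.mpr fun g => ?_
    obtain ⟨r, rfl⟩ := (param hn hF).surjective g
    rw [param_prod, param_prod]
    refine congrArg _ (Subtype.ext ?_)
    show pmul n r.1 p.1 = pmul n p.1 r.1
    simp [pmul, ha, add_comm, zero_pow (pow_ne_zero n two_ne_zero)]

theorem card_center : Nat.card (Subgroup.center (syl hn hF)) = 2 ^ n := by
  haveI := charTwo hn hF
  have h0 : ∀ g : Subgroup.center (syl hn hF), ((param hn hF).symm g.1).1.1 = 0 := fun g =>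
    (mem_center_iff hn hF _).mp (by rw [Equiv.apply_symm_apply]; exact g.2)
  let e : Subgroup.center (syl hn hF) ≃ {b : F // b ^ 2 ^ n = b} :=
    { toFun := fun g => ⟨((param hn hF).symm g.1).1.2, by
        have h := ((param hn hF).symm g.1).2
        unfold cond at h
        rw [h0 g, zero_pow (Nat.succ_ne_zero _)] at h
        exact (tr_eq_zero hn hF).mp h⟩
      invFun := fun b => ⟨param hn hF ⟨(0, b.1), by
        show b.1 + b.1 ^ 2 ^ n = (0 : F) ^ (2 ^ n + 1)
        rw [zero_pow (Nat.succ_ne_zero _)]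
        exact (tr_eq_zero hn hF).mpr b.2⟩, (mem_center_iff hn hF _).mpr rfl⟩
      left_inv := fun g => by
        refine Subtype.ext ?_
        show param hn hF _ = g.1
        rw [← Equiv.eq_symm_apply]
        exact Subtype.ext (Prod.ext (h0 g).symm rfl)
      right_inv := fun b => by simp }
  exact (Nat.card_congr e).trans (card_fix hn hF)

theorem sq_eq_one_iff (p : Par F n) : param hn hF p * param hn hF p = 1 ↔ p.1.1 = 0 := by
  haveI := charTwo hn hF
  rw [param_prod, ← param_zero hn hF, (param hn hF).injective.eq_iff, Subtype.ext_iff]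
  show pmul n p.1 p.1 = (0, 0) ↔ _
  simp [pmul, CharTwo.add_self_eq_zero]

include hn hF in
/-- A Sylow 2-subgroup of `PSU₃(2^n)` is isomorphic to the unipotent radical. -/
theorem equiv_syl (S : Sylow 2 (Cfsg.PSU 3 F (2 ^ n))) :
    Nonempty (↥(S : Subgroup (Cfsg.PSU 3 F (2 ^ n))) ≃* syl hn hF) := by
  classical
  haveI : Fact (Nat.Prime 2) := ⟨Nat.prime_two⟩
  have hqe : 2 ∣ (2 ^ n) := dvd_pow_self 2 (by omega)
  have hq2 : 2 ≤ (2 ^ n) := Nat.le_self_pow (by omega) 2
  have hqe' : Even (2 ^ n) := even_iff_two_dvd.mpr hqe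
  have hZ : (Nat.card (Subgroup.center (Cfsg.SU 3 F (2 ^ n)))).Coprime 2 := by
    rw [Forms.card_center_SU hF (by norm_num)]
    exact Nat.Coprime.coprime_dvd_left (Nat.gcd_dvd_left _ _) (by norm_num)
  let π := QuotientGroup.mk' (Subgroup.center (Cfsg.SU 3 F (2 ^ n)))
  let f : syl hn hF →* Cfsg.PSU 3 F (2 ^ n) := π.comp (syl hn hF).subtype
  have hf : Function.Injective f := by
    rw [injective_iff_map_eq_one]
    intro g hg
    have hmem : (g : Cfsg.SU 3 F (2 ^ n)) ∈ syl hn hF ⊓ Subgroup.center (Cfsg.SU 3 F (2 ^ n)) :=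
      ⟨g.2, (QuotientGroup.eq_one_iff _).mp hg⟩
    have hcop : (Nat.card (syl hn hF)).Coprime (Nat.card (Subgroup.center (Cfsg.SU 3 F (2 ^ n)))) := by
      rw [card_syl hn hF, ← pow_mul]
      exact (hZ.symm).pow_left _
    rw [Subgroup.inf_eq_bot_of_coprime hcop, Subgroup.mem_bot] at hmem
    exact Subtype.ext hmem
  have hcard : Nat.card f.range = (2 ^ n) ^ 3 := by
    rw [← Nat.card_congr (MonoidHom.ofInjective hf).toEquiv, card_syl hn hF]
  have hfac : (Nat.card (Cfsg.PSU 3 F (2 ^ n))).factorization 2 = 3 * n := by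
    have h := Forms.card_PSU_mul hF (show 1 ≤ 3 by norm_num)
    rw [Forms.card_GU hF 3] at h
    simp only [Finset.prod_range_succ, Finset.prod_range_zero, one_mul, Nat.even_iff] at h
    norm_num [-Nat.card_eq_fintype_card] at h
    set c := Nat.gcd 3 ((2 ^ n) + 1) * ((2 ^ n) + 1) with hc
    have hodd1 : ¬ 2 ∣ c := by
      rw [hc, Nat.prime_two.dvd_mul]
      rintro (h1 | h1)
      · have := h1.trans (Nat.gcd_dvd_left _ _); omega
      · omega
    have hodd2 : ∀ k, k ≠ 0 → ¬ 2 ∣ (2 ^ n) ^ k + 1 := fun k hk h1 => by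
      have := dvd_pow hqe hk; omega
    have hodd3 : ∀ k, k ≠ 0 → ¬ 2 ∣ (2 ^ n) ^ k - 1 := fun k hk h1 => by
      have := dvd_pow hqe hk
      have : 1 ≤ (2 ^ n) ^ k := Nat.one_le_pow _ _ (by omega)
      omega
    have hR : ¬ 2 ∣ ((2 ^ n) + 1) * ((2 ^ n) ^ 2 - 1) * ((2 ^ n) ^ 3 + 1) := by
      rw [Nat.prime_two.dvd_mul, Nat.prime_two.dvd_mul]
      rintro ((h1 | h1) | h1)
      · omega
      · exact hodd3 2 (by norm_num) h1
      · exact hodd2 3 (by norm_num) h1
    have h' : c * Nat.card (Cfsg.PSU 3 F (2 ^ n)) = 2 ^ (3 * n) * (((2 ^ n) + 1) * ((2 ^ n) ^ 2 - 1) * ((2 ^ n) ^ 3 + 1)) := by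
      rw [hc, mul_assoc, h, show 2 ^ (3 * n) = (2 ^ n) ^ 3 by rw [← pow_mul, mul_comm]]
    clear_value c
    have hfac := congrArg (fun m => Nat.factorization m 2) h'
    rw [Nat.factorization_mul (fun e => hodd1 (by simp [e])) Nat.card_pos.ne',
      Nat.factorization_mul (by positivity) (fun e => hR (by simp [e])), Finsupp.add_apply, Finsupp.add_apply,
      Nat.factorization_eq_zero_of_not_dvd hodd1, Nat.factorization_eq_zero_of_not_dvd hR,
      Nat.Prime.factorization_pow Nat.prime_two, Finsupp.single_eq_same] at hfac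
    omega
  let S₀ : Sylow 2 (Cfsg.PSU 3 F (2 ^ n)) := Sylow.ofCard f.range (by
    rw [hfac, hcard, ← pow_mul, mul_comm])
  exact ⟨(S.equiv S₀).trans (MonoidHom.ofInjective hf).symm⟩

end Cfsg.Agent.U3Two
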