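import Mathlib
import Cfsg.Agent.Lib.U3Two.Heisenberg

/-!
The norms `a^(q+1)` of an additive subgroup of order at least `q` of `F_{q²}` span the fixed field
(`q` a power of two): the trace-norm form has no totally singular subspace of that size.
-/

set_option autoImplicit false
set_option linter.unusedSectionVars false

namespace Cfsg.Agent.U3Two

variable {F : Type*} [Field F] [Fintype F] {n : ℕ} (hn : 1 ≤ n) (hF : Fintype.card F = (2 ^ n) ^ 2)

/-- The sign of an element of `ZMod 2`. -/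
def sgn (x : ZMod 2) : ℤ := if x = 0 then 1 else -1

theorem sgn_add (x y : ZMod 2) : sgn (x + y) = sgn x * sgn y := by revert x y; decide

theorem sum_sgn_eq_zero {A : Type*} [AddCommGroup A] [Fintype A] (φ : A →+ ZMod 2) (h : φ ≠ 0) :
    ∑ a : A, sgn (φ a) = 0 := by
  obtain ⟨b, hb⟩ : ∃ b, φ b ≠ 0 := by
    by_contra hall
    push Not at hall
    exact h (AddMonoidHom.ext hall)
  have hb' : sgn (φ b) = -1 := if_neg hb
  have h1 : ∑ a : A, sgn (φ a) = sgn (φ b) * ∑ a : A, sgn (φ a) := by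
    rw [Finset.mul_sum]
    refine Fintype.sum_equiv (Equiv.addLeft (-b)) _ _ fun a => ?_
    show sgn (φ a) = sgn (φ b) * sgn (φ (-b + a))
    rw [← sgn_add, ← map_add, add_neg_cancel_left]
  rw [hb'] at h1
  omega

/-- The fixed field of `x ↦ x^q` as an additive subgroup. -/
def fixq : AddSubgroup F where
  carrier := {b | b ^ 2 ^ n = b}
  add_mem' := fun {x y} hx hy => by
    show (x + y) ^ 2 ^ n = x + y
    rw [qadd hn hF, hx, hy]
  zero_mem' := zero_pow (pow_ne_zero n two_ne_zero)
  neg_mem' := fun {x} hx => by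
    haveI := charTwo hn hF
    show (-x) ^ 2 ^ n = -x
    rw [CharTwo.neg_eq]; exact hx

include hn hF in
theorem norm_fibre {z : F} (hz : z ^ 2 ^ n = z) (hz0 : z ≠ 0) :
    Nat.card {a : F // a ^ (2 ^ n + 1) = z} = 2 ^ n + 1 := by
  classical
  have hq : 2 ≤ 2 ^ n := Nat.le_self_pow (by omega) 2
  let N : Fˣ →* Fˣ := powMonoidHom (2 ^ n + 1)
  let Z : Subgroup Fˣ := (powMonoidHom (α := Fˣ) (2 ^ n - 1)).ker
  have hker : Nat.card N.ker = 2 ^ n + 1 := Forms.card_units_pow_eq_one hF (Dvd.intro _ rfl)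
  have hZ : Nat.card Z = 2 ^ n - 1 := Forms.card_units_pow_eq_one hF (Dvd.intro_left _ rfl)
  have hle : N.range ≤ Z := by
    rintro _ ⟨u, rfl⟩
    show (u ^ (2 ^ n + 1)) ^ (2 ^ n - 1) = 1
    rw [← pow_mul, ← Forms.units_card hF]
    exact pow_card_eq_one'
  have hrange : Nat.card N.range = 2 ^ n - 1 := by
    have h := Subgroup.card_eq_card_quotient_mul_card_subgroup N.ker
    rw [Nat.card_congr (QuotientGroup.quotientKerEquivRange N).toEquiv, hker, Forms.units_card hF,
      mul_comm (2 ^ n + 1)] at h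
    exact (Nat.eq_of_mul_eq_mul_right (by omega) h).symm
  have heq : N.range = Z := Subgroup.eq_of_le_of_card_ge hle (by rw [hrange, hZ])
  have hmem : Units.mk0 z hz0 ∈ Z := by
    refine Units.ext ?_
    rw [powMonoidHom_apply, Units.val_pow_eq_pow_val, Units.val_mk0, Units.val_one]
    refine mul_right_cancel₀ hz0 ?_
    rw [← pow_succ, Nat.sub_add_cancel (by omega), hz, one_mul]
  obtain ⟨u₀, hu₀⟩ : Units.mk0 z hz0 ∈ N.range := heq ▸ hmem
  have hu₀' : (u₀ : F) ^ (2 ^ n + 1) = z := by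
    simpa [N] using congrArg Units.val hu₀
  let e : {a : F // a ^ (2 ^ n + 1) = z} ≃ N.ker :=
    { toFun := fun a => ⟨Units.mk0 a.1 (fun h => hz0 (by rw [← a.2, h, zero_pow (Nat.succ_ne_zero _)])) * u₀⁻¹, by
        refine Units.ext ?_
        simp only [N, powMonoidHom_apply, mul_pow, inv_pow, Units.val_mul, Units.val_pow_eq_pow_val, Units.val_mk0,
          Units.val_inv_eq_inv_val, a.2, hu₀', Units.val_one]
        exact mul_inv_cancel₀ hz0⟩
      invFun := fun k => ⟨((k.1 * u₀ : Fˣ) : F), by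
        have hk : (k.1 : F) ^ (2 ^ n + 1) = 1 := by simpa [N] using congrArg Units.val k.2
        rw [Units.val_mul, mul_pow, hk, hu₀', one_mul]⟩
      left_inv := fun a => Subtype.ext (by simp)
      right_inv := fun k => Subtype.ext (Units.ext (by simp)) }
  exact (Nat.card_congr e).trans hker

include hn hF in
/-- The sum of signs of the form `a ↦ φ (a^(q+1))`. -/
theorem sum_sgn_norm (φ : F →+ ZMod 2) {x : F} (hx : x ^ 2 ^ n = x) (hφ : φ x ≠ 0) :
    ∑ a : F, sgn (φ (a ^ (2 ^ n + 1))) = -(2 ^ n : ℤ) := by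
  classical
  haveI : Fintype (fixq hn hF) := Fintype.ofFinite _
  let Nm : F → fixq hn hF := fun a => ⟨a ^ (2 ^ n + 1), norm_fixed hn hF a⟩
  rw [← Finset.sum_fiberwise Finset.univ Nm (fun a => sgn (φ (a ^ (2 ^ n + 1))))]
  have hterm : ∀ z : fixq hn hF,
      ∑ a ∈ Finset.univ.filter (fun a => Nm a = z), sgn (φ (a ^ (2 ^ n + 1))) =
        (((2 ^ n + 1 : ℕ) : ℤ) - if z = 0 then ((2 ^ n : ℕ) : ℤ) else 0) * sgn (φ z) := by
    intro z
    rw [Finset.sum_congr rfl (g := fun _ => sgn (φ z)) fun a ha => by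
      rw [← (Finset.mem_filter.mp ha).2], Finset.sum_const, nsmul_eq_mul]
    congr 1
    by_cases h : z = 0
    · rw [if_pos h, h]
      have : Finset.univ.filter (fun a => Nm a = 0) = {0} := by
        ext a
        simp [Nm, Subtype.ext_iff]
      rw [this, Finset.card_singleton]
      push_cast; ring
    · rw [if_neg h, sub_zero]
      have hc := norm_fibre hn hF z.2 (fun e => h (Subtype.ext e))
      rw [Nat.card_eq_fintype_card, Fintype.card_subtype] at hc
      rw [Finset.filter_congr (q := fun a => a ^ (2 ^ n + 1) = (z : F)) fun a _ => by simp [Nm, Subtype.ext_iff], hc]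
  rw [Finset.sum_congr rfl fun z _ => hterm z]
  simp only [sub_mul, Finset.sum_sub_distrib, ← Finset.mul_sum, ite_mul, zero_mul, Finset.sum_ite_eq',
    Finset.mem_univ, if_true]
  have h0 := sum_sgn_eq_zero (φ.comp (fixq hn hF).subtype)
    (fun h => hφ (DFunLike.congr_fun h (⟨x, hx⟩ : fixq hn hF)))
  simp only [AddMonoidHom.comp_apply, AddSubgroup.coe_subtype] at h0
  rw [h0]
  simp [sgn]

include hn hF in
/-- The norms of an additive subgroup of order at least `q` span the fixed field. -/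
theorem norm_span (W : AddSubgroup F) (hW : 2 ^ n ≤ Nat.card W) (D : AddSubgroup F)
    (hD : ∀ w ∈ W, w ^ (2 ^ n + 1) ∈ D) {x : F} (hx : x ^ 2 ^ n = x) : x ∈ D := by
  classical
  haveI := charTwo hn hF
  letI : Algebra (ZMod 2) F := ZMod.algebra F 2
  by_contra hxD
  let D' : Submodule (ZMod 2) F := AddSubgroup.toZModSubmodule 2 D
  obtain ⟨f, hfx, hfD⟩ := D'.exists_dual_map_eq_bot_of_notMem (x := x) hxD inferInstance
  have hfD' : ∀ d ∈ D, f d = 0 := fun d hd => by
    have : f d ∈ D'.map f := Submodule.mem_map_of_mem (show d ∈ D' from hd)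
    rwa [hfD, Submodule.mem_bot] at this
  let W' : Submodule (ZMod 2) F := AddSubgroup.toZModSubmodule 2 W
  have hexp : ∀ a b : F, (a + b) ^ (2 ^ n + 1) =
      a ^ (2 ^ n + 1) + b ^ (2 ^ n + 1) + (a ^ 2 ^ n * b + b ^ 2 ^ n * a) := by
    intro a b
    simp only [pow_succ, qadd hn hF]
    ring
  let β₀ : F → F →+ ZMod 2 := fun a =>
    { toFun := fun b => f (a ^ 2 ^ n * b + b ^ 2 ^ n * a)
      map_zero' := by simp [zero_pow (pow_ne_zero n two_ne_zero)]
      map_add' := fun b c => by rw [← map_add, qadd hn hF]; congr 1; ring }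
  let L : F →ₗ[ZMod 2] Module.Dual (ZMod 2) F := AddMonoidHom.toZModLinearMap 2
    { toFun := fun a => (β₀ a).toZModLinearMap 2
      map_zero' := by ext b; simp [β₀, zero_pow (pow_ne_zero n two_ne_zero)]
      map_add' := fun a c => by
        ext b
        show f ((a + c) ^ 2 ^ n * b + b ^ 2 ^ n * (a + c)) = _ + _
        show f ((a + c) ^ 2 ^ n * b + b ^ 2 ^ n * (a + c)) =
          f (a ^ 2 ^ n * b + b ^ 2 ^ n * a) + f (c ^ 2 ^ n * b + b ^ 2 ^ n * c)
        rw [← map_add, qadd hn hF]; congr 1; ring }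
  have hLapp : ∀ a b, L a b = f (a ^ 2 ^ n * b + b ^ 2 ^ n * a) := fun a b => rfl
  have hLinj : LinearMap.ker L = ⊥ := by
    rw [LinearMap.ker_eq_bot']
    intro a ha
    by_contra ha0
    have hN : a ^ (2 ^ n + 1) ≠ 0 := pow_ne_zero _ ha0
    have hy : (x / a ^ (2 ^ n + 1)) ^ 2 ^ n = x / a ^ (2 ^ n + 1) := by
      rw [div_pow, hx, norm_fixed hn hF]
    have hcard := card_tr_fibre hn hF hy
    obtain ⟨⟨t, ht⟩⟩ := (Nat.card_ne_zero.mp (hcard.trans_ne (pow_ne_zero n two_ne_zero))).1
    refine hfx ?_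
    have h1 := DFunLike.congr_fun ha (a * t)
    rw [hLapp, LinearMap.zero_apply] at h1
    rw [← h1]
    congr 1
    rw [mul_pow, eq_comm]
    rw [eq_div_iff hN, pow_succ] at ht
    linear_combination ht
  let P : F →ₗ[ZMod 2] Module.Dual (ZMod 2) W' := W'.dualRestrict.comp L
  have hPsurj : Function.Surjective P := by
    have hLs : Function.Surjective L :=
      (LinearMap.injective_iff_surjective_of_finrank_eq_finrank Subspace.dual_finrank_eq.symm).mp
        (LinearMap.ker_eq_bot.mp hLinj)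
    intro ψ
    obtain ⟨g, hg⟩ := Subspace.dualRestrict_surjective (W := W') ψ
    obtain ⟨a, ha⟩ := hLs g
    exact ⟨a, by show W'.dualRestrict (L a) = ψ; rw [ha, hg]⟩
  have hq0 : ∀ w ∈ W, f (w ^ (2 ^ n + 1)) = 0 := fun w hw => hfD' _ (hD w hw)
  have hWperp : W' ≤ LinearMap.ker P := by
    intro a ha
    rw [LinearMap.mem_ker]
    refine LinearMap.ext fun w => ?_
    show L a (w : F) = 0
    have h := hq0 _ (W.add_mem (show a ∈ W from ha) (show (w : F) ∈ W from w.2))
    rw [hexp, map_add, map_add, hq0 a ha, hq0 _ w.2, zero_add, zero_add] at h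
    rw [hLapp, h]
  have hfin : Module.finrank (ZMod 2) F = 2 * n := by
    have h := Module.natCard_eq_pow_finrank (K := ZMod 2) (V := F)
    rw [Nat.card_zmod, Nat.card_eq_fintype_card, hF, ← pow_mul, mul_comm] at h
    exact (Nat.pow_right_injective le_rfl h).symm
  have hW' : n ≤ Module.finrank (ZMod 2) W' := by
    have h := Module.natCard_eq_pow_finrank (K := ZMod 2) (V := W')
    rw [Nat.card_zmod] at h
    exact (Nat.pow_le_pow_iff_right one_lt_two).mp (hW.trans h.le)
  have hrn := LinearMap.finrank_range_add_finrank_ker P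
  rw [LinearMap.range_eq_top.mpr hPsurj, finrank_top, Subspace.dual_finrank_eq, hfin] at hrn
  have hle := Submodule.finrank_mono hWperp
  have hkerW : LinearMap.ker P = W' := (Submodule.eq_of_le_of_finrank_le hWperp (by omega)).symm
  have hWcard : Nat.card W' = 2 ^ n := by
    rw [Module.natCard_eq_pow_finrank (K := ZMod 2), Nat.card_zmod]
    congr 1
    omega
  haveI : Fintype W' := Fintype.ofFinite _
  -- count
  have hrow : ∀ a : F, ∑ w : W', sgn (f ((a + w) ^ (2 ^ n + 1))) =
      if a ∈ W' then (2 ^ n : ℤ) else 0 := by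
    intro a
    split_ifs with ha
    · rw [Finset.sum_congr rfl (g := fun _ => (1 : ℤ)) fun w _ => by
        simp [sgn, hq0 _ (W.add_mem (show a ∈ W from ha) (show (w : F) ∈ W from w.2))],
        Finset.sum_const, Finset.card_univ, ← Nat.card_eq_fintype_card, hWcard]
      simp
    · rw [Finset.sum_congr rfl (g := fun w : W' => sgn (f (a ^ (2 ^ n + 1))) * sgn (P a w)) fun w _ => by
        rw [← sgn_add, hexp, map_add, map_add, hq0 _ w.2, add_zero]
        rfl, ← Finset.mul_sum]
      have hz : ∑ w : W', sgn (P a w) = 0 := sum_sgn_eq_zero (P a).toAddMonoidHom (fun h => ha (by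
        rw [← hkerW, LinearMap.mem_ker]
        exact LinearMap.ext fun w => DFunLike.congr_fun h w))
      rw [hz, mul_zero]
  have htot := Finset.sum_congr rfl fun a (_ : a ∈ Finset.univ) => hrow a
  rw [Finset.sum_comm] at htot
  have hcol : ∀ w : W', ∑ a : F, sgn (f ((a + w) ^ (2 ^ n + 1))) = ∑ a : F, sgn (f (a ^ (2 ^ n + 1))) :=
    fun w => Fintype.sum_equiv (Equiv.addRight (w : F)) _ (fun a => sgn (f (a ^ (2 ^ n + 1)))) fun a => rfl
  rw [Finset.sum_congr rfl fun w _ => hcol w, Finset.sum_const,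
    Finset.card_univ, ← Nat.card_eq_fintype_card, hWcard, ← Finset.sum_filter, Finset.sum_const,
    ← Fintype.card_subtype, ← Nat.card_eq_fintype_card, hWcard] at htot
  have hS := sum_sgn_norm hn hF f.toAddMonoidHom hx hfx
  simp only [LinearMap.toAddMonoidHom_coe] at hS
  rw [hS] at htot
  have hpos : (0 : ℤ) < (2 : ℤ) ^ n * 2 ^ n := by positivity
  simp only [nsmul_eq_mul, Nat.cast_pow, Nat.cast_ofNat] at htot
  linarith

end Cfsg.Agent.U3Two
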