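import Cfsg.Agent.Lib.U3Two.AutFix
import Cfsg.Agent.Lib.SuzukiTwo.Field

/-!
Additive bijections of `F_{q²}` which are similitudes of the norm `x ↦ x^(q+1)` are semilinear
(`q` a power of two).
-/

set_option autoImplicit false
set_option linter.unusedSectionVars false
set_option linter.style.haveILetI false

namespace Cfsg.Agent.U3Two

variable {F : Type*} [Field F] [Fintype F] {n : ℕ} (hn : 1 ≤ n) (hF : Fintype.card F = (2 ^ n) ^ 2)

include hn hF in
theorem tr_surj {t : F} (ht : t ^ 2 ^ n = t) : ∃ x : F, x + x ^ 2 ^ n = t := by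
  obtain ⟨⟨x, hx⟩⟩ := (Nat.card_ne_zero.mp ((card_tr_fibre hn hF ht).trans_ne (pow_ne_zero n two_ne_zero))).1
  exact ⟨x, hx⟩

include hn hF in
theorem norm_surj {z : F} (hz : z ^ 2 ^ n = z) : ∃ x : F, x ^ (2 ^ n + 1) = z := by
  by_cases hz0 : z = 0
  · exact ⟨0, by rw [hz0, zero_pow (Nat.succ_ne_zero _)]⟩
  · obtain ⟨⟨x, hx⟩⟩ := (Nat.card_ne_zero.mp ((norm_fibre hn hF hz hz0).trans_ne (Nat.succ_ne_zero _))).1
    exact ⟨x, hx⟩

include hn hF in
theorem tr_fixed (x : F) : (x + x ^ 2 ^ n) ^ 2 ^ n = x + x ^ 2 ^ n := by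
  rw [qadd hn hF, Forms.pow_q_q hF, add_comm]

include hn hF in
/-- A normalised similitude of the norm is a field automorphism. -/
theorem ringHom_of_similitude (g : F → F) (hbij : Function.Bijective g)
    (gadd : ∀ x y, g (x + y) = g x + g y) (h : F → F)
    (hadd : ∀ s t : F, s ^ 2 ^ n = s → t ^ 2 ^ n = t → h (s + t) = h s + h t)
    (hh : ∀ x, g x ^ (2 ^ n + 1) = h (x ^ (2 ^ n + 1))) (g1 : g 1 = 1) :
    ∀ x y, g (x * y) = g x * g y := by
  haveI := charTwo hn hF
  have h2 : (2 : F) = 0 := two_zero hn hF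
  have hT := tr_fixed hn hF
  have hg0 : g 0 = 0 := by
    have := gadd 0 0
    rw [add_zero] at this
    exact left_eq_add.mp this
  have h1 : h 1 = 1 := by
    have := hh 1
    rw [g1, one_pow] at this
    exact this.symm
  -- polarisation
  have hB : ∀ x y, g x ^ 2 ^ n * g y + g y ^ 2 ^ n * g x = h (x ^ 2 ^ n * y + y ^ 2 ^ n * x) := by
    intro x y
    have hfix : (x ^ 2 ^ n * y + y ^ 2 ^ n * x) ^ 2 ^ n = x ^ 2 ^ n * y + y ^ 2 ^ n * x := by
      rw [qadd hn hF, mul_pow, mul_pow, Forms.pow_q_q hF, Forms.pow_q_q hF]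
      ring
    have hN : (x + y) ^ (2 ^ n + 1) = x ^ (2 ^ n + 1) + y ^ (2 ^ n + 1) + (x ^ 2 ^ n * y + y ^ 2 ^ n * x) := by
      rw [pow_succ, qadd hn hF, pow_succ, pow_succ]
      ring
    have hsum : (x ^ (2 ^ n + 1) + y ^ (2 ^ n + 1)) ^ 2 ^ n = x ^ (2 ^ n + 1) + y ^ (2 ^ n + 1) := by
      rw [qadd hn hF, norm_fixed hn hF, norm_fixed hn hF]
    have e := hh (x + y)
    rw [gadd, hN, hadd _ _ hsum hfix, hadd _ _ (norm_fixed hn hF x) (norm_fixed hn hF y), ← hh, ← hh,
      pow_succ, qadd hn hF, pow_succ, pow_succ] at e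
    linear_combination e
  have hTg : ∀ x, g x + g x ^ 2 ^ n = h (x + x ^ 2 ^ n) := fun x => by
    have e := hB x 1
    simp only [g1, one_pow, mul_one, one_mul] at e
    rw [add_comm, e, add_comm]
  have h0 : h 0 = 0 := by
    have := hadd 0 0 (zero_pow (pow_ne_zero n two_ne_zero)) (zero_pow (pow_ne_zero n two_ne_zero))
    rw [add_zero] at this
    exact left_eq_add.mp this
  have hK : ∀ a, a ^ 2 ^ n = a → g a ^ 2 ^ n = g a := fun a ha => by
    refine (tr_eq_zero hn hF).1 ?_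
    rw [hTg, (tr_eq_zero hn hF).2 ha, h0]
  have hmulh : ∀ a t, a ^ 2 ^ n = a → t ^ 2 ^ n = t → h (a * t) = g a * h t := by
    intro a t ha ht
    obtain ⟨x, rfl⟩ := tr_surj hn hF ht
    have e := hB a x
    rw [hK a ha, ha] at e
    rw [← hTg, mul_add, mul_comm a (x ^ 2 ^ n), ← e]
    ring
  have hga : ∀ a, a ^ 2 ^ n = a → h a = g a := fun a ha => by
    have := hmulh a 1 ha (one_pow _)
    rwa [mul_one, h1, mul_one] at this
  have hlin : ∀ a x, a ^ 2 ^ n = a → g (a * x) = g a * g x := by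
    intro a x ha
    have key : ∀ z, (g (a * x) + g a * g x) ^ 2 ^ n * z + z ^ 2 ^ n * (g (a * x) + g a * g x) = 0 := by
      intro z
      obtain ⟨y, rfl⟩ := hbij.2 z
      have e1 := hB (a * x) y
      have hfix : (x ^ 2 ^ n * y + y ^ 2 ^ n * x) ^ 2 ^ n = x ^ 2 ^ n * y + y ^ 2 ^ n * x := by
        rw [qadd hn hF, mul_pow, mul_pow, Forms.pow_q_q hF, Forms.pow_q_q hF]
        ring
      rw [mul_pow, ha, show a * x ^ 2 ^ n * y + y ^ 2 ^ n * (a * x) = a * (x ^ 2 ^ n * y + y ^ 2 ^ n * x) by ring,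
        hmulh a _ ha hfix, ← hB] at e1
      rw [qadd hn hF, mul_pow, hK a ha]
      linear_combination e1 + (g a * g x ^ 2 ^ n * g y + g a * g x * g y ^ 2 ^ n) * h2
    set w := g (a * x) + g a * g x with hw
    have hw0 : w = 0 := by
      by_contra hw0
      obtain ⟨t, ht⟩ : ∃ t : F, t ^ 2 ^ n ≠ t := by
        by_contra hall
        push Not at hall
        have h1 := card_fix hn hF
        rw [Nat.card_congr (Equiv.subtypeUnivEquiv hall), Nat.card_eq_fintype_card, hF] at h1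
        have : 2 ≤ 2 ^ n := Nat.le_self_pow (by omega) 2
        nlinarith
      have e := key (w * t)
      rw [mul_pow] at e
      have e' : w ^ 2 ^ n * w * (t + t ^ 2 ^ n) = 0 := by linear_combination e
      rcases mul_eq_zero.1 e' with h' | h'
      · exact mul_ne_zero (pow_ne_zero _ hw0) hw0 h'
      · exact ht ((tr_eq_zero hn hF).1 h')
    exact CharTwo.add_eq_zero.1 hw0
  have hsq : ∀ x, g (x * x) = g x * g x := by
    intro x
    have e1 : x * x = (x + x ^ 2 ^ n) * x + x ^ (2 ^ n + 1) := by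
      rw [pow_succ]
      linear_combination -(x ^ 2 ^ n * x) * h2
    rw [e1, gadd, hlin _ _ (hT x), ← hga _ (hT x), ← hTg, ← hga _ (norm_fixed hn hF x), ← hh, pow_succ]
    linear_combination (g x ^ 2 ^ n * g x) * h2
  intro x y
  by_cases hx : x ^ 2 ^ n = x
  · exact hlin x y hx
  have hTx : x + x ^ 2 ^ n ≠ 0 := fun e => hx ((tr_eq_zero hn hF).1 e)
  set b := (y + y ^ 2 ^ n) / (x + x ^ 2 ^ n) with hb
  have hbK : b ^ 2 ^ n = b := by rw [hb, div_pow, hT, hT]
  set a := y + b * x with ha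
  have haK : a ^ 2 ^ n = a := by
    refine (tr_eq_zero hn hF).1 ?_
    have hbT : b * (x + x ^ 2 ^ n) = y + y ^ 2 ^ n := by rw [hb, div_mul_cancel₀ _ hTx]
    rw [ha, qadd hn hF, mul_pow, hbK]
    linear_combination hbT + (y + y ^ 2 ^ n) * h2
  have hy : y = a + b * x := by rw [ha]; linear_combination -(b * x) * h2
  rw [hy, gadd, mul_add, gadd, mul_comm x a, hlin a x haK, show x * (b * x) = b * (x * x) by ring,
    hlin b _ hbK, hsq, hlin b x hbK]
  ring

include hn hF in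
/-- Similitudes of the norm are semilinear. -/
theorem semilinear (g : F → F) (hbij : Function.Bijective g) (gadd : ∀ x y, g (x + y) = g x + g y)
    (h : F → F) (hadd : ∀ s t : F, s ^ 2 ^ n = s → t ^ 2 ^ n = t → h (s + t) = h s + h t)
    (hh : ∀ x, g x ^ (2 ^ n + 1) = h (x ^ (2 ^ n + 1))) :
    ∃ c : F, c ≠ 0 ∧ ∃ i < 2 * n, ∀ x, g x = c * x ^ 2 ^ i := by
  haveI := charTwo hn hF
  have hg0 : g 0 = 0 := by
    have := gadd 0 0
    rw [add_zero] at this
    exact left_eq_add.mp this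
  have hc : g 1 ≠ 0 := fun e => one_ne_zero (hbij.1 (e.trans hg0.symm))
  set c := g 1 with hcdef
  let g' : F → F := fun x => c⁻¹ * g x
  have hbij' : Function.Bijective g' := (mulLeft_bijective₀ c⁻¹ (inv_ne_zero hc)).comp hbij
  have hmul := ringHom_of_similitude hn hF g' hbij' (fun x y => by simp only [g', gadd, mul_add])
    (fun s => (c⁻¹) ^ (2 ^ n + 1) * h s) (fun s t hs ht => by simp only [hadd s t hs ht, mul_add])
    (fun x => by simp only [g', mul_pow, hh]) (by simp [g', ← hcdef, inv_mul_cancel₀ hc])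
  let e : F ≃+* F :=
    { Equiv.ofBijective g' hbij' with
      map_mul' := hmul
      map_add' := fun x y => by show g' (x + y) = g' x + g' y; simp only [g', gadd, mul_add] }
  obtain ⟨i, hi, he⟩ := SuzukiTwo.exists_frobenius_pow (m := 2 * n) (by rw [hF, ← pow_mul, mul_comm]) e
  refine ⟨c, hc, i, hi, fun x => ?_⟩
  have := he x
  change c⁻¹ * g x = _ at this
  rw [← this, mul_inv_cancel_left₀ hc]

end Cfsg.Agent.U3Two
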